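import Cfsg.Agent.M24X.SextStab
import Cfsg.Agent.Golay.Coset

/-!
# The cocode with its `M24`-action (owner: helper92)
-/

set_option autoImplicit false

namespace Cfsg.Agent.M24X

open Cfsg MulAction Cfsg.Agent.Golay Cfsg.Agent.Golay.Orb Cfsg.Agent.Golay.Coset
open scoped Pointwise

/-- binary words on the 24 points -/
abbrev V24 : Type := GolayPt → ZMod 2

/-- the cocode -/
abbrev Q12 : Type := V24 ⧸ golayCode

/-- coordinate permutation -/
def pact (σ : Equiv.Perm GolayPt) : V24 →ₗ[ZMod 2] V24 := LinearMap.funLeft (ZMod 2) (ZMod 2) (σ⁻¹ : Equiv.Perm GolayPt)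

theorem pact_apply (σ : Equiv.Perm GolayPt) (w : V24) (p : GolayPt) : pact σ w p = w (σ⁻¹ p) := rfl

theorem pact_wordOf (σ : Equiv.Perm GolayPt) (s : Finset GolayPt) : pact σ (wordOf s) = wordOf (σ • s) := by
  funext p
  rw [pact_apply]
  unfold wordOf
  have h : σ⁻¹ p ∈ s ↔ p ∈ σ • s := by
    rw [Finset.mem_smul_finset]
    constructor
    · intro h; exact ⟨σ⁻¹ p, h, by change σ (σ⁻¹ p) = p; simp⟩
    · rintro ⟨q, hq, rfl⟩
      have : σ⁻¹ (σ • q) = q := by rw [Equiv.Perm.inv_eq_iff_eq]; rfl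
      rwa [this]
  by_cases h1 : p ∈ σ • s
  · rw [if_pos h1, if_pos (h.2 h1)]
  · rw [if_neg h1, if_neg (fun e => h1 (h.1 e))]

theorem wordOf_mem {s : Finset GolayPt} : wordOf s ∈ golayCode ↔ s ∈ codeSets := by
  constructor
  · intro h; exact ⟨_, h, support₂_wordOf s⟩
  · rintro ⟨w, hw, h⟩
    have : w = wordOf s := by rw [← h, wordOf_support₂]
    rwa [← this]

theorem smul_codeSets {σ : Equiv.Perm GolayPt} (hσ : σ ∈ M24) {s : Finset GolayPt} (hs : s ∈ codeSets) :
    σ • s ∈ codeSets := by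
  have h : σ • (codeSets : Set (Finset GolayPt)) = codeSets := hσ
  rw [← h]
  exact Set.smul_mem_smul_set hs

theorem pact_mem {σ : Equiv.Perm GolayPt} (hσ : σ ∈ M24) {w : V24} (hw : w ∈ golayCode) : pact σ w ∈ golayCode := by
  rw [← wordOf_support₂ w] at hw ⊢
  rw [pact_wordOf, wordOf_mem]
  exact smul_codeSets hσ (wordOf_mem.1 hw)

theorem pact_mul (σ τ : Equiv.Perm GolayPt) (w : V24) : pact (σ * τ) w = pact σ (pact τ w) := by
  funext p
  rw [pact_apply, pact_apply, pact_apply, mul_inv_rev, Equiv.Perm.mul_apply]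

theorem pact_one (w : V24) : pact 1 w = w := by
  funext p
  rw [pact_apply, inv_one, Equiv.Perm.one_apply]

/-- The action on the cocode. -/
def qact : M24 →* Module.End (ZMod 2) Q12 where
  toFun g := Submodule.mapQ golayCode golayCode (pact g) (fun _ hw => pact_mem g.2 hw)
  map_one' := by
    apply Submodule.linearMap_qext
    ext w
    rfl
  map_mul' g h := by
    apply Submodule.linearMap_qext
    ext w
    rfl

/-- class of a set -/
def cls (s : Finset GolayPt) : Q12 := golayCode.mkQ (wordOf s)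

theorem wordOf_symmDiff (s t : Finset GolayPt) : wordOf (symmDiff s t) = wordOf s + wordOf t := by
  funext p
  simp only [wordOf, Finset.mem_symmDiff, Pi.add_apply]
  by_cases h1 : p ∈ s <;> by_cases h2 : p ∈ t <;> simp [h1, h2]
  decide

theorem cls_symmDiff (s t : Finset GolayPt) : cls (symmDiff s t) = cls s + cls t := by
  unfold cls
  rw [wordOf_symmDiff, map_add]

theorem cls_eq_iff {s t : Finset GolayPt} : cls s = cls t ↔ symmDiff s t ∈ codeSets := by
  unfold cls
  rw [Submodule.mkQ_apply, Submodule.mkQ_apply, Submodule.Quotient.eq, sub_mem_iff, support₂_wordOf, support₂_wordOf,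
    symmDiff_comm]

theorem cls_eq_zero {s : Finset GolayPt} : cls s = 0 ↔ s ∈ codeSets := by
  unfold cls
  rw [Submodule.mkQ_apply, Submodule.Quotient.mk_eq_zero, wordOf_mem]

theorem qact_cls (g : M24) (s : Finset GolayPt) : qact g (cls s) = cls (g • s) := by
  change golayCode.mkQ (pact g (wordOf s)) = golayCode.mkQ (wordOf (g • s))
  rw [pact_wordOf]; rfl

theorem ofMask_mem_codeSets {m : ℕ} (hm : m < 2 ^ 24) : ofMask m ∈ codeSets ↔ inCode m = true := by
  exact ofMask_mem_supports_iff hm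

theorem cls_ofMask_eq {a b : ℕ} (h : inCode (a ^^^ b) = true) : cls (ofMask a) = cls (ofMask b) := by
  rw [cls_eq_iff, ← ofMask_xor, ofMask_mem_codeSets (inCode_lt h)]
  exact h

theorem cls_ofMask_xor (a b : ℕ) : cls (ofMask (a ^^^ b)) = cls (ofMask a) + cls (ofMask b) := by
  rw [ofMask_xor, cls_symmDiff]

theorem qact_cls_mask {n : ℕ} {g : M24} (hT : IsTable n (g : Equiv.Perm GolayPt)) {a b : ℕ} (ha : a < 2 ^ 24)
    (h : inCode (pmask n a ^^^ b) = true) : qact g (cls (ofMask a)) = cls (ofMask b) := by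
  rw [qact_cls]
  change cls ((g : Equiv.Perm GolayPt) • ofMask a) = _
  rw [smul_ofMask hT ha, cls_ofMask_eq h]

end Cfsg.Agent.M24X
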