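import Cfsg.Agent.M24X.Quartet
import Cfsg.Agent.M24X.TrioTrio

/-!
# Quartets of the base dodecad by tables (owner: helper92)
-/

set_option autoImplicit false

namespace Cfsg.Agent.M24X

open Cfsg MulAction Cfsg.Agent.Golay Cfsg.Agent.Golay.Orb
open scoped Pointwise

def qE : ℕ := 0x5200000120800010300005405200000111000020600004905200000104200021100010c05200000100500034000001a05100000220800014400001305100000211000024100000e05100000204200021400010905100000200500030200005805020000300800010500005205020000214000101400000b05020000201100110200004c05020000200600104100011805010000301000020500004a05010000224000100900001605010000200c00120200005105010000200300104400021805004000300200020c00011105000800320000014200001505001000310000024200000d05000200304000020900011405000400300100024800011205000100300400020a00015005004000230000101800000705004000201400120100010a05004000200900110400021205001000220100104800010605001000200a00120400014105000400220200114000001905001000204400100300030805000100221000110800004605000400210800121000004305000800210400105000020305000200220400101100014805000100210200124000001c0500020020180013000000450500080020120011010002440500080020410010060003100500020021010010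0c00025005000400205000100a00030105000100204800101200030404300001020800014100001604300001011000020300004c04300001004200030400001904300001000500025000010a04220001100800011200004504210001101000020900004604200801120000015000000704201001110000020c00004304204001100200020500011804200201104000031000000d04200401100100021800014204200101100400030800005204220001014000100300001c04220001001100110400004a04220001000600105000010904210001024000100a00001504210001000300120400005804210001000c00104100021204204001030000100c00001304201001020100100600014804200101021000114000000e04200201020400110800005104200401020200104800011104204001000900121000010604204001001400110100020a04200801010400101100024204200401010800101200024104200201010100101400024804200101010200101800024404200401005000130000000b04201001004400100900030204200801004100110200021404201001000a00124000010504200101004800120200011404200201001800120100014404200801001200104400030104120001200800011100004604110001201000024800000704100801220000011400004304101001210000020a00004504104001200200030800001504100201204000021800010504100401200100024200011804100101200400031000004a04120001010200205000000d04120001004100210400001a04120001001400200300014804110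001020200204100001c04110001000900220400005204110001004400200a00021104100201030000201400004904104001020100200c00011204104001010400221000000b04100101024000201800010604101001020400200900014204100401021000204800010304100401014000201200020904100101010800220200005404104001001800210100020604100801010100204400021204100801005000210200020504101001000300224000010c04101001004800200600030104100401000a00230000005104100201000c00220100015004100101001200214000020c04100201001100210800024404100801000600201100034004020801300000010600005104011001300000024400000b04004201300000030100001c04000501300000021200014804030001204000101100000e04024001210000100600001904021001200100100a00014404020101201000100c00014204020401200200100900015004020201200400101800014104014001220000101200000d04010801200400124000001304010101200200121000004c04010401200800100300025004010201200100105000020c04001101220000104400010a04000601220000110100005804000c01210000120100005204005001200400110200020904004801200100130000001604004401201000120200010904000301210000104800021404004101200800101400030204001401204000110800020304000901204000120400011204001801200200110400024104001201200800114000020504000a012010001041000304040300011002002009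00005404020201110000204800001504024001100100200a00011404020101104000210800001604021001100400210200004904020401101000204100010a04010201120000204400001904014001100400201800020304010401104000201100020a04010801100100205000020604010101100800201400024204004101120000201200010c04001401120000210100004a04004401110000220100001a04004801101000220200010504005001100800200300030404000901110000200600025004001801104000220400010304001201100100230000004c04000a01100400224000011104000c01100200221000014104001101100200210400024804000601100800214000021104000301101000200c00034004030001001800300400004304030001000500201200104804021001010800304000000704024001000c00301000010304020101010400300200005804020401004800310000001304020201005000300100010c04020801011000204200100504024001001200200500110804020401010100201800104204021001004200200c00110104020801004400210100101204020801000300201400114004020201000900211000104404010801021000300200004504020101000a00204400111004010101020400304000001a04014001000a00300100021404010401001200320000004904011001020800200500104204010201001400300800024104010401020100204200101804001801030000300100004604014001001100200600120804011001004100220200100c0401080100420022010010140400500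1010100320000000e04010101005000220800100604010201004800221000100504001201024000300400010904011001000600204800120104000a01020100310000005404000901020200301000014404004801010200300400021104001101014000300800020604005001020200210800100504004801020400211000100304004101000600310000021804004401020800210200101104004201021000210400100904000501030000200a00105004004401000300300800031004000301004400320000011804000c01024000200300111004000601004100301000030804001401000900300200034004004101011000220400100a04000c01001100304000030204004201010800201100120404000301020800205000110404001401010200220800104104000a01014000200500121004001201010400204100120804004201000500220800111004000601011000200900124004001801000500214000120204000901001400230000104204000501004200211000120804001101000c002042001300040005010018002240001102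

/-- the `k`-th triple of the `i`-th quartet -/
def qM (i k : ℕ) : ℕ := Nat.land (Nat.shiftRight qE (Nat.add (Nat.mul 96 i) (Nat.mul 24 k))) 16777215

def qLst (i : ℕ) : List ℕ := [qM i 0, qM i 1, qM i 2, qM i 3]

def decQ (i : ℕ) : Finset (Finset GolayPt) := ((qLst i).map ofMask).toFinset

/-- ordering key -/
def qKey (i : ℕ) : ℕ := Nat.add (Nat.add (Nat.mul (qM i 0) (qM i 0)) (Nat.mul (qM i 1) (qM i 1)))
  (Nat.add (Nat.mul (qM i 2) (qM i 2)) (Nat.mul (qM i 3) (qM i 3)))

theorem qM_lt (i k : ℕ) : qM i k < 2 ^ 24 := by
  unfold qM
  exact lt_of_le_of_lt Nat.and_le_right (by norm_num)

theorem qLst_lt (i : ℕ) : ∀ m ∈ qLst i, m < 2 ^ 24 := by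
  intro m hm
  unfold qLst at hm
  simp only [List.mem_cons, List.not_mem_nil, or_false] at hm
  rcases hm with rfl | rfl | rfl | rfl <;> exact qM_lt _ _

/-- masks increasing -/
def qInc (i : ℕ) : Bool := match Nat.ble (Nat.succ (qM i 0)) (qM i 1) with
  | true => (match Nat.ble (Nat.succ (qM i 1)) (qM i 2) with
    | true => Nat.ble (Nat.succ (qM i 2)) (qM i 3)
    | false => false)
  | false => false

theorem qInc_ok : allLT qInc 220 = true := by decide +kernel

theorem qKey_ok : allLT (fun i => Nat.ble (Nat.succ (qKey i)) (qKey (Nat.succ i))) 219 = true := by decide +kernel

theorem qInc_iff {i : ℕ} (h : qInc i = true) : qM i 0 < qM i 1 ∧ qM i 1 < qM i 2 ∧ qM i 2 < qM i 3 := by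
  unfold qInc at h
  cases h1 : Nat.ble (Nat.succ (qM i 0)) (qM i 1) with
  | false => rw [h1] at h; exact absurd h (by simp)
  | true =>
    rw [h1] at h
    cases h2 : Nat.ble (Nat.succ (qM i 1)) (qM i 2) with
    | false => simp only [h2] at h; exact absurd h (by simp)
    | true =>
      simp only [h2] at h
      exact ⟨Nat.le_of_ble_eq_true h1, Nat.le_of_ble_eq_true h2, Nat.le_of_ble_eq_true h⟩

theorem qLst_nodup {i : ℕ} (hi : i < 220) : (qLst i).Nodup := by
  obtain ⟨h1, h2, h3⟩ := qInc_iff (allLT_iff.1 qInc_ok i hi)
  unfold qLst
  simp only [List.nodup_cons, List.mem_cons, List.not_mem_nil, or_false, not_false_eq_true, List.nodup_nil, and_true]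
  omega

theorem map_nodup {L : List ℕ} (hL : L.Nodup) (hlt : ∀ u ∈ L, u < 2 ^ 24) : (L.map ofMask).Nodup := by
  rw [List.nodup_map_iff_inj_on hL]
  intro a ha b hb h
  rw [← maskOf_ofMask (hlt a ha), h, maskOf_ofMask (hlt b hb)]

theorem card_decQ {i : ℕ} (hi : i < 220) : (decQ i).card = 4 := by
  unfold decQ
  rw [List.toFinset_card_of_nodup (map_nodup (qLst_nodup hi) (qLst_lt i)), List.length_map]; rfl

def keyOf (Q : Finset (Finset GolayPt)) : ℕ := ∑ t ∈ Q, maskOf t * maskOf t

theorem keyOf_decQ {i : ℕ} (hi : i < 220) : keyOf (decQ i) = qKey i := by
  unfold keyOf decQ
  rw [List.sum_toFinset _ (map_nodup (qLst_nodup hi) (qLst_lt i))]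
  unfold qLst
  simp only [List.map_cons, List.map_nil, List.sum_cons, List.sum_nil, maskOf_ofMask (qM_lt i _)]
  change _ = (qM i 0 * qM i 0 + qM i 1 * qM i 1) + (qM i 2 * qM i 2 + qM i 3 * qM i 3)
  ring

theorem qKey_lt {i j : ℕ} (hij : i < j) (hj : j < 220) : qKey i < qKey j := by
  induction j with
  | zero => omega
  | succ j ih =>
    have h1 : qKey j < qKey (j + 1) := Nat.le_of_ble_eq_true (allLT_iff.1 qKey_ok j (by omega))
    rcases Nat.lt_succ_iff_lt_or_eq.1 hij with h2 | h2
    · exact (ih h2 (by omega)).trans h1
    · rw [h2]; exact h1

theorem decQ_inj {i j : ℕ} (hi : i < 220) (hj : j < 220) (h : decQ i = decQ j) : i = j := by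
  have h1 := keyOf_decQ hi
  rw [h, keyOf_decQ hj] at h1
  rcases lt_trichotomy i j with h2 | h2 | h2
  · have := qKey_lt h2 hj; omega
  · exact h2
  · have := qKey_lt h2 hi; omega

def memQ (j m : ℕ) : Bool := memL (qLst j) m

/-- The table `n` maps the `i`-th quartet to the `j`-th. -/
def mapsQ (n i j : ℕ) : Bool := match memQ j (pmask n (qM i 0)) with
  | true => (match memQ j (pmask n (qM i 1)) with
    | true => (match memQ j (pmask n (qM i 2)) with
      | true => memQ j (pmask n (qM i 3))
      | false => false)
    | false => false)
  | false => false

theorem mapsQ_iff {n i j : ℕ} (h : mapsQ n i j = true) : ∀ m ∈ qLst i, pmask n m ∈ qLst j := by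
  unfold mapsQ at h
  cases h0 : memQ j (pmask n (qM i 0)) with
  | false => rw [h0] at h; exact absurd h (by simp)
  | true =>
    simp only [h0] at h
    cases h1 : memQ j (pmask n (qM i 1)) with
    | false => rw [h1] at h; exact absurd h (by simp)
    | true =>
      simp only [h1] at h
      cases h2 : memQ j (pmask n (qM i 2)) with
      | false => rw [h2] at h; exact absurd h (by simp)
      | true =>
        simp only [h2] at h
        intro m hm
        unfold qLst at hm
        simp only [List.mem_cons, List.not_mem_nil, or_false] at hm
        rcases hm with rfl | rfl | rfl | rfl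
        · exact memL_iff.1 h0
        · exact memL_iff.1 h1
        · exact memL_iff.1 h2
        · exact memL_iff.1 h

theorem smul_decQ {n : ℕ} {σ : Equiv.Perm GolayPt} (hT : IsTable n σ) {i j : ℕ} (hi : i < 220) (hj : j < 220)
    (h : mapsQ n i j = true) : σ • decQ i = decQ j := by
  apply Finset.eq_of_subset_of_card_le
  · intro x hx
    rw [Finset.mem_smul_finset] at hx
    obtain ⟨c, hc, rfl⟩ := hx
    unfold decQ at hc ⊢
    rw [List.mem_toFinset, List.mem_map] at hc ⊢
    obtain ⟨m, hm, rfl⟩ := hc
    exact ⟨_, mapsQ_iff h m hm, by rw [smul_ofMask hT (qLst_lt i m hm)]⟩
  · rw [Finset.card_smul_finset, card_decQ hi, card_decQ hj]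

/-- Check of the certificate at the index `i`. -/
def certQAt (L bases : List ℕ) (cert i : ℕ) : Bool :=
  fz (entT cert i) fun e =>
    match Nat.beq (tTy e) 0 with
    | true => false
    | false => match Nat.beq (tDep e) 0 with
      | true => Nat.beq i (nthD bases (tTy e))
      | false => fz (tTgt e) fun j => match Nat.ble (Nat.succ j) 220 with
        | false => false
        | true => match mapsQ (nthD L (tGen e)) i j with
          | false => false
          | true => fz (entT cert j) fun e' => match Nat.beq (tTy e') (tTy e) with
            | true => Nat.ble (Nat.succ (tDep e')) (tDep e)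
            | false => false

theorem certQ_sound {H : Subgroup (Equiv.Perm GolayPt)} {L bases : List ℕ} {cert : ℕ}
    (hL : ∀ n ∈ L, InSub H n) (h : allLT (certQAt L bases cert) 220 = true) :
    ∀ i < 220, tTy (entT cert i) ≠ 0 ∧ ∃ σ ∈ H, σ • decQ i = decQ (nthD bases (tTy (entT cert i))) := by
  have h' := allLT_iff.1 h
  suffices ∀ d i, i < 220 → tDep (entT cert i) = d → tTy (entT cert i) ≠ 0 ∧
      ∃ σ ∈ H, σ • decQ i = decQ (nthD bases (tTy (entT cert i))) by
    intro i hi
    exact this _ i hi rfl
  intro d
  induction d using Nat.strong_induction_on with
  | _ d ih =>
    intro i hi hd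
    have h1 := h' i hi
    unfold certQAt at h1
    simp only [fz_eq] at h1
    cases e1 : Nat.beq (tTy (entT cert i)) 0 with
    | true => rw [e1] at h1; exact absurd h1 (by simp)
    | false =>
      rw [e1] at h1
      have hty : tTy (entT cert i) ≠ 0 := by
        intro h2; rw [h2] at e1; exact absurd e1 (by decide)
      refine ⟨hty, ?_⟩
      cases e2 : Nat.beq (tDep (entT cert i)) 0 with
      | true =>
        simp only [e2] at h1
        refine ⟨1, H.one_mem, ?_⟩
        rw [one_smul]
        exact congrArg decQ (Nat.eq_of_beq_eq_true h1)
      | false =>
        simp only [e2] at h1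
        cases e3 : Nat.ble (Nat.succ (tTgt (entT cert i))) 220 with
        | false => simp only [e3] at h1; exact absurd h1 (by simp)
        | true =>
          simp only [e3] at h1
          have hj := Nat.le_of_ble_eq_true e3
          cases e4 : mapsQ (nthD L (tGen (entT cert i))) i (tTgt (entT cert i)) with
          | false => simp only [e4] at h1; exact absurd h1 (by simp)
          | true =>
            simp only [e4] at h1
            cases e5 : Nat.beq (tTy (entT cert (tTgt (entT cert i)))) (tTy (entT cert i)) with
            | false => simp only [e5] at h1; exact absurd h1 (by simp)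
            | true =>
              simp only [e5] at h1
              have h6 := Nat.eq_of_beq_eq_true e5
              have h7 := Nat.le_of_ble_eq_true h1
              have hmem : InSub H (nthD L (tGen (entT cert i))) := by
                rcases nthD_mem L (tGen (entT cert i)) with h5 | h5
                · rw [h5]; exact inSub_one
                · exact hL _ h5
              obtain ⟨σ, hσ, hT⟩ := hmem
              obtain ⟨-, τ, hτ, h8⟩ := ih _ (hd ▸ h7) _ hj rfl
              refine ⟨τ * σ, H.mul_mem hτ hσ, ?_⟩
              rw [mul_smul, smul_decQ hT hi hj e4, h8, h6]

/-! ### The certificates -/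

abbrev bQ : ℕ := 173

/-- the base quartet -/
abbrev Q₀ : Finset (Finset GolayPt) := decQ bQ

def q0L : List ℕ := [7, 336, 70144, 270344]

theorem q0L_eq : qLst bQ = q0L := by decide +kernel

theorem Q₀_eq : Q₀ = (q0L.map ofMask).toFinset := by
  rw [← q0L_eq]; rfl

theorem q0L_lt : ∀ m ∈ q0L, m < 2 ^ 24 := by decide +kernel

theorem mem_Q₀ {s : Finset GolayPt} : s ∈ Q₀ ↔ ∃ m ∈ q0L, ofMask m = s := by
  rw [Q₀_eq, List.mem_toFinset, List.mem_map]

theorem q0_check : ∀ a ∈ q0L, pop a = 3 ∧ a &&& 340831 = a ∧ ∀ b ∈ q0L, a ≠ b → pop (a ||| b) = 6 ∧
    ∃ o ∈ octadList, o &&& 340831 = a ||| b := by decide +kernel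

theorem Q₀_mem : Q₀ ∈ quartets d0 := by
  refine ⟨card_decQ (by norm_num), ?_, ?_⟩
  · intro t ht
    obtain ⟨m, hm, rfl⟩ := mem_Q₀.1 ht
    obtain ⟨h1, h2, -⟩ := q0_check m hm
    refine ⟨by rw [card_eq_pop, maskOf_ofMask (q0L_lt m hm), h1], ?_⟩
    rw [← Finset.inter_eq_left, ← ofMask_and, h2]
  · intro t ht u hu htu
    obtain ⟨a, ha, rfl⟩ := mem_Q₀.1 ht
    obtain ⟨b, hb, rfl⟩ := mem_Q₀.1 hu
    obtain ⟨-, -, h3⟩ := q0_check a ha
    obtain ⟨h4, o, ho, h5⟩ := h3 b hb (fun h => htu (by rw [h]))
    have hlt : a ||| b < 2 ^ 24 := Nat.or_lt_two_pow (q0L_lt a ha) (q0L_lt b hb)
    rw [← ofMask_or]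
    refine ⟨by rw [card_eq_pop, maskOf_ofMask hlt, h4], ofMask o, ?_, ?_⟩
    · have h6 := mem_octadList_iff.1 ho
      rw [mem_octads_iff, maskOf_ofMask (inCode_lt h6.1)]
      exact h6
    · rw [← ofMask_and, h5]

def gensQG : List ℕ := [0x9dcabb11c9ac45253cd03828c43423, 0xa4dc554ae95d5ac79c44b0e2640600, 0x555e5b262c5b8663cc4db868022212]
def gensQK : List ℕ := [0x7ce95bb4e85b8662c48c526d090440, 0x2a9d4582728d42db5c693c1ec11106, 0x55aae8ca707d06c2dd213816269106]

theorem gensQG_ok : allB gensQG (fun n => match validM24 n with | true => Nat.beq (pmask n 340831) 340831 | false => false) = true := by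
  decide +kernel

theorem gensQK_ok : allB gensQK (fun n => match validM24 n with
    | true => (match Nat.beq (pmask n 340831) 340831 with | true => mapsQ n bQ bQ | false => false)
    | false => false) = true := by
  decide +kernel

/-- the stabilisers -/
noncomputable def stabD : Subgroup (Equiv.Perm GolayPt) := M24 ⊓ stabilizer (Equiv.Perm GolayPt) d0
noncomputable def stabQ : Subgroup (Equiv.Perm GolayPt) := stabD ⊓ stabilizer (Equiv.Perm GolayPt) Q₀

theorem gensQG_in : ∀ n ∈ gensQG, InSub stabD n := by
  intro n hn
  have h1 := allB_iff.1 gensQG_ok n hn
  cases h2 : validM24 n with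
  | false => simp only [h2] at h1; exact absurd h1 (by simp)
  | true =>
    simp only [h2] at h1
    obtain ⟨σ, hσ, hT⟩ := exists_mem_M24 h2
    refine ⟨σ, ⟨hσ, ?_⟩, hT⟩
    change σ • ofMask 340831 = ofMask 340831
    rw [smul_ofMask hT (by norm_num), Nat.eq_of_beq_eq_true h1]

theorem inSub_stabQ {n : ℕ} (h2 : validM24 n = true) (h3 : pmask n 340831 = 340831) (h4 : mapsQ n bQ bQ = true) :
    InSub stabQ n := by
  obtain ⟨σ, hσ, hT⟩ := exists_mem_M24 h2
  refine ⟨σ, ⟨⟨hσ, ?_⟩, smul_decQ hT (by norm_num) (by norm_num) h4⟩, hT⟩
  change σ • ofMask 340831 = ofMask 340831
  rw [smul_ofMask hT (by norm_num), h3]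

theorem gensQK_in : ∀ n ∈ gensQK, InSub stabQ n := by
  intro n hn
  have h1 := allB_iff.1 gensQK_ok n hn
  cases h2 : validM24 n with
  | false => simp only [h2] at h1; exact absurd h1 (by simp)
  | true =>
    simp only [h2] at h1
    cases h3 : Nat.beq (pmask n 340831) 340831 with
    | false => simp only [h3] at h1; exact absurd h1 (by simp)
    | true =>
      simp only [h3] at h1
      exact inSub_stabQ h2 (Nat.eq_of_beq_eq_true h3) h1

def certQG : ℕ := 0x2a7100d56100af5110a761108651100531208f5110313100a34120b06100b621006741102951203131101141209f31006f51103b51101d5120d35110355110a95100cd5120342110d961003341109c5100be5100c43120cc4100b961208851004841206851104d51209c5120085120ad1120964120865120b16110c761203e51208e51209641109361100001009c5110ad11102871208b4120a76100a951109961107a6100276100a03110034100c66120ab2110342120ce41009e51108b41009a41108d31000f5120d961109f3110c431009b5110c86100595100306120155120a95120974120ce4120b621202761208d3110d761107351103341201851007b4110896110404120bf4100c251001e41003e51006051006a6120765100715110a031008851109a4120826110625120d641208b4110815110414100516120d641108451106741004e4100ca61101141100d61209e51004641106741204a3100835100715100be5120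af51204141108d3120974100bb5110174100bb5100cb6100404110be5110034110b55120ab2100656110b46100573100355100d351006f51003761005b5110053110334100c061200341203421003b5100573110906120d131008f5100bc6120d051002c5100c431109f31204d5110484110b96110d051209641008351201251100c61106c5110b55100174120ad11004a3120b16120ab2120735100d56120b55110053100d441000071000c61004141203c61002951008e51001a51207a61207351203f61201551003e5110bf4110a03120464120c761008961002d41102661001741104a3110c061005441101851203b5120d44120d13120d641007b41000f5100355120885120b76110b46110146110cc4110656100845120b621108261203131205361202c51203c611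
def certQK : ℕ := 0x3c4310b72420b82520bd54000413003d4400723500d22400172300021400036510d654003745102c5510504410c95500415500a343005a45003e5500015510473200c64210b45510b455208845107e3410bf45207235100d5510774400a454002b5510b66500204410001510021410145500c955203045008d4320525400784520774420962310195400000100a73410d723004a4320c14400454420d224107f25107e3400124400d333002755000634001723101723208044002544201244100955003912105645203145001a4520041320bf45109032006254005c4420cd54008e22104a4300391200ab3300354510614510bf4500d545000735100a6400b565007d54108155204645107155203045107e3420001500b724002544103454000155008b5520884520333510d434102a55108955202645008e22207f25207845009c5400a033003d44209855109e5410c865102c55203645200b45003912201e3510114400b054000b45203d44101e35008955004064105254100015200634107155103335002265008b5500a85400d935006254208a55105254202f4400504420da3410955510b15510903210a03310d93510ab33102a55007332009a2210a63510a73400655400ab3320a95420664500a95400ac44204645202434000833006645205d25100002006855203335203a35003a3520ac44007f2500b82500323520a63520a734204965007744104b45005645105a45200735206e54001a45001e3520da3400212400c46510b15500021420063420614520b825106f4300454410a14420a635001244208d43000413100d55206065207845106f4310243410d43400a033207565006355004645009555203235106554205645009623005d250021241043430000030097550000040061450000050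
def basesQ : List ℕ := [0, 173, 57, 4, 2, 0]

theorem certQG_ok : allLT (certQAt gensQG [0, bQ] certQG) 220 = true := by decide +kernel
theorem certQK_ok : allLT (certQAt gensQK basesQ certQK) 220 = true := by decide +kernel
theorem tyQG_ok : allLT (fun i => Nat.beq (tTy (entT certQG i)) 1) 220 = true := by decide +kernel
theorem tyQK_ok : allLT (fun i => Nat.ble (tTy (entT certQK i)) 5) 220 = true := by decide +kernel

theorem decQ_orbit {i : ℕ} (hi : i < 220) : ∃ σ ∈ stabD, σ • decQ i = Q₀ := by
  obtain ⟨-, σ, hσ, h⟩ := certQ_sound gensQG_in certQG_ok i hi
  rw [Nat.eq_of_beq_eq_true (allLT_iff.1 tyQG_ok i hi)] at h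
  exact ⟨σ, hσ, h⟩

theorem decQ_mem {i : ℕ} (hi : i < 220) : decQ i ∈ quartets d0 := by
  obtain ⟨σ, hσ, h⟩ := decQ_orbit hi
  have h1 := smul_quartets (M24.inv_mem hσ.1) Q₀_mem
  have h2 : σ⁻¹ • d0 = d0 := by rw [inv_smul_eq_iff]; exact hσ.2.symm
  rwa [← h, inv_smul_smul, h2] at h1

end Cfsg.Agent.M24X
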