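import Cfsg.Agent.M24X.Uniq

/-! The block list and the propagation steps for the Steiner system with parameters (5, 6, 12). -/

set_option autoImplicit false

namespace Cfsg.Agent.M24X.Uniq

/-- the blocks -/
def L12 : List ℕ := [
  125, 183, 207, 250, 315, 343, 366, 414, 429, 473, 483, 500, 543, 619, 630, 686, 697, 723,
  732, 741, 807, 828, 845, 858, 881, 907, 917, 946, 966, 1000, 1086, 1115, 1127, 1181, 1195,
  1238, 1260, 1265, 1295, 1333, 1372, 1385, 1394, 1427, 1446, 1464, 1477, 1482, 1581, 1587,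
  1614, 1621, 1656, 1671, 1690, 1716, 1737, 1762, 1814, 1817, 1834, 1859, 1892, 1932, 1953,
  2000, 2095, 2142, 2163, 2203, 2236, 2261, 2278, 2281, 2333, 2358, 2379, 2405, 2424, 2439,
  2474, 2481, 2508, 2514, 2613, 2618, 2631, 2649, 2668, 2701, 2710, 2723, 2762, 2800, 2830,
  2835, 2857, 2900, 2914, 2968, 2980, 3009, 3095, 3129, 3149, 3178, 3188, 3214, 3237, 3250,
  3267, 3288, 3354, 3363, 3372, 3398, 3409, 3465, 3476, 3552, 3595, 3612, 3622, 3666, 3681,
  3729, 3752, 3780, 3845, 3888, 3912, 3970]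

/-- the steps -/
def steps12 : List (ℕ × ℕ × List (List ℕ)) := [
  (31, 9, [[0, 1, 2, 3, 4, 6, 7, 8, 9, 5, 10, 11], [0, 1, 2, 3, 4, 5, 7, 8, 9, 6, 10, 11], [0, 1, 2, 3, 4, 5, 6, 8, 9, 7, 10, 11], [0, 1, 2, 3, 4, 5, 6, 7, 9, 8, 10, 11], [0, 1, 2, 3, 4, 5, 6, 7, 8, 10, 9, 11], [0, 1, 2, 3, 4, 5, 6, 7, 8, 11, 10, 9]]),
  (47, 11, [[0, 1, 2, 3, 4, 5, 7, 8, 10, 9, 11, 6], [0, 1, 2, 3, 4, 5, 6, 8, 10, 9, 11, 7], [0, 1, 2, 3, 4, 5, 6, 7, 10, 9, 11, 8], [0, 1, 2, 3, 4, 5, 6, 7, 8, 9, 11, 10]]),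
  (79, 7, [[0, 1, 2, 3, 4, 5, 6, 8, 7, 9, 10, 11], [0, 1, 2, 3, 4, 5, 6, 10, 8, 9, 7, 11]]),
  (271, 10, []),
  (55, 7, [[0, 1, 2, 3, 4, 5, 7, 6, 8, 9, 10, 11], [0, 1, 2, 3, 4, 5, 10, 8, 6, 9, 7, 11], [0, 1, 2, 3, 4, 5, 8, 10, 6, 9, 7, 11]]),
  (279, 6, [[0, 1, 2, 3, 4, 7, 11, 5, 8, 9, 10, 6]]), (1047, 11, []), (295, 9, []),
  (1063, 6, []), (583, 11, []), (391, 11, []), (647, 10, []),
  (59, 8, [[0, 1, 2, 3, 6, 5, 8, 10, 4, 7, 9, 11], [0, 1, 2, 3, 5, 4, 6, 7, 10, 11, 8, 9]]),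
  (107, 9, []), (171, 10, []), (331, 11, []), (1099, 4, []), (395, 9, []), (2187, 4, []),
  (1547, 11, []), (115, 11, []), (563, 10, []), (211, 9, []), (403, 10, []), (787, 11, []),
  (227, 8, []), (675, 11, []), (1315, 11, []), (1219, 11, []), (835, 10, []),
  (61, 6, [[0, 1, 2, 3, 10, 4, 5, 11, 6, 8, 7, 9]]), (1053, 7, []), (2077, 8, []),
  (301, 7, []), (557, 10, []), (333, 9, []), (1101, 11, []), (653, 11, []), (309, 10, []),
  (565, 11, []), (213, 11, []), (597, 10, []), (405, 9, []), (229, 9, []), (357, 11, []),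
  (1189, 11, []), (453, 10, []), (1797, 11, []), (185, 9, []), (1081, 11, []), (217, 8, []),
  (601, 11, []), (793, 10, []), (233, 11, []), (361, 10, []), (809, 11, []), (713, 10, []),
  (1417, 11, []), (241, 10, []), (369, 9, []), (433, 11, []), (1361, 11, []), (1681, 11, []),
  (1633, 11, []), (929, 10, []), (961, 11, []), (62, 10, []), (94, 11, []), (158, 8, []),
  (110, 8, []), (174, 9, []), (590, 10, []), (1166, 11, []), (782, 11, []), (118, 9, []),
  (310, 11, []), (214, 10, []), (662, 11, []), (790, 10, []), (230, 11, []), (422, 10, []),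
  (1574, 11, []), (454, 9, []), (1350, 11, []), (122, 7, []), (570, 11, []), (346, 9, []),
  (666, 10, []), (1306, 11, []), (1130, 11, []), (426, 11, []), (810, 10, []), (458, 10, []),
  (714, 11, []), (370, 10, []), (434, 9, []), (1202, 11, []), (466, 11, []), (1618, 11, []),
  (738, 10, []), (866, 11, []), (1922, 11, []), (188, 11, []), (316, 9, []), (220, 9, []),
  (348, 10, []), (1564, 11, []), (236, 10, []), (620, 11, []), (1324, 11, []), (460, 11, []),
  (908, 10, []), (244, 8, []), (1140, 11, []), (692, 10, []), (852, 11, []), (1428, 11, []),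
  (868, 10, []), (932, 11, []), (1732, 11, []), (376, 11, []), (632, 10, []), (440, 10, []),
  (1240, 11, []), (920, 11, []), (488, 9, []), (1704, 11, []), (1864, 11, []), (752, 11, []),
  (1840, 11, []), (976, 10, []), (1504, 11, [])]

theorem run12 : run 12 5 6 [] steps12 L12 = true := by decide +kernel

theorem good12 : goodL 12 5 L12 = true := by decide +kernel

end Cfsg.Agent.M24X.Uniq
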